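import Cfsg.Agent.H86.RV.D4M
import Cfsg.Agent.H967.FaTw
import Cfsg.Agent.H561.RV.AutCrit
import Cfsg.Agent.S0242

/-!
# `³D₄(q)`, `q` odd: field automorphisms of odd order centralise a Sylow `2`-subgroup (helper86)

* `autOdd_3d4`.
-/

set_option autoImplicit false
set_option maxHeartbeats 400000

namespace Cfsg.Agent.H86.RV

open Cfsg Cfsg.Lie Subgroup
open Cfsg.Agent.H967.CopMat Cfsg.Agent.H967.CopTw Cfsg.Agent.H967.FaTw Cfsg.Agent.H967.CopD4
open Cfsg.Agent.H561.RV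

universe u

theorem card_SL2 {F : Type u} [Field F] [Finite F] : Nat.card (Matrix.SpecialLinearGroup (Fin 2) F) =
    Nat.card F * (Nat.card F ^ 2 - 1) := by
  have : Fintype F := Fintype.ofFinite F
  have h1 := Cfsg.Agent.S0242.result (F := F) rfl 2 (by norm_num)
  have hq : 2 ≤ Fintype.card F := Fintype.one_lt_card
  rw [Fin.prod_univ_two] at h1
  have h3 : Fintype.card F ^ 2 - Fintype.card F ^ 1 = (Fintype.card F - 1) * Fintype.card F := by
    rw [Nat.sub_mul, one_mul, pow_one, pow_two]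
  simp only [Fin.val_zero, Fin.val_one, pow_zero] at h1
  rw [h3] at h1
  have h4 : (Fintype.card F - 1) * Nat.card (Matrix.SpecialLinearGroup (Fin 2) F) =
      (Fintype.card F - 1) * (Fintype.card F * (Fintype.card F ^ 2 - 1)) := by rw [h1]; ring
  rw [Nat.card_eq_fintype_card (α := F)]
  exact Nat.eq_of_mul_eq_mul_left (by omega) h4

/-- the `2`-part of the order of `³D₄(r ^ n)`, `r`, `n` odd -/
theorem two_part {r n k : ℕ} (hr : Odd r) (hn : Odd n)
    (h : 2 ^ k ∣ (r ^ n) ^ 12 * ((r ^ n) ^ 2 - 1) * ((r ^ n) ^ 6 - 1) * ((r ^ n) ^ 8 + (r ^ n) ^ 4 + 1)) :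
    2 ^ k ∣ (r * (r ^ 2 - 1)) * (r * (r ^ 2 - 1)) := by
  obtain ⟨c1, hc1, e1⟩ := odd_quot (x := r ^ 2) (n := n) hr.pow hn
  obtain ⟨c2, hc2, e2⟩ := odd_quot (x := r ^ 2) (n := 3 * n) hr.pow ((by decide : Odd 3).mul hn)
  have e3 : (r ^ n) ^ 2 - 1 = (r ^ 2 - 1) * c1 := by rw [← e1, ← pow_mul, ← pow_mul, mul_comm n 2]
  have e4 : (r ^ n) ^ 6 - 1 = (r ^ 2 - 1) * c2 := by
    rw [← e2, ← pow_mul, ← pow_mul]
    congr 2
    ring
  rw [e3, e4] at h
  have hq : Odd (r ^ n) := hr.pow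
  have h5 : Odd ((r ^ n) ^ 8 + (r ^ n) ^ 4 + 1) := (hq.pow.add_odd hq.pow).add_one
  have h6 : (r ^ n) ^ 12 * ((r ^ 2 - 1) * c1) * ((r ^ 2 - 1) * c2) * ((r ^ n) ^ 8 + (r ^ n) ^ 4 + 1) =
      ((r ^ n) ^ 12 * c1 * c2 * ((r ^ n) ^ 8 + (r ^ n) ^ 4 + 1)) * ((r ^ 2 - 1) * (r ^ 2 - 1)) := by ring
  rw [h6] at h
  have h7 : Odd ((r ^ n) ^ 12 * c1 * c2 * ((r ^ n) ^ 8 + (r ^ n) ^ 4 + 1)) :=
    ((hq.pow.mul hc1).mul hc2).mul h5
  have h8 : Nat.Coprime (2 ^ k) ((r ^ n) ^ 12 * c1 * c2 * ((r ^ n) ^ 8 + (r ^ n) ^ 4 + 1)) :=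
    Nat.Coprime.pow_left _ (Nat.coprime_two_left.2 h7)
  have h9 := h8.dvd_of_dvd_mul_left h
  have e : (r * (r ^ 2 - 1)) * (r * (r ^ 2 - 1)) = (r * r) * ((r ^ 2 - 1) * (r ^ 2 - 1)) := by ring
  rw [e]
  exact h9.mul_left _

section

variable {F : Type} [Field F] [Fintype F] {q : ℕ}

/-- a Sylow `2`-subgroup of `³D₄(q)` over the fixed field of an automorphism `σ` of odd order, `|F_σ| = r`, `q = r ^ n` -/
theorem exists_sylow_fixed {r n : ℕ} (hq : IsPrimePow q) (hodd : Odd q) (hF : Fintype.card F = q ^ 3) (σ : F ≃+* F)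
    (hr : Nat.card ↥(Fx σ) = r) (hn : Odd n) (hqr : q = r ^ n) :
    ∃ P₀ : Sylow 2 ↥(twistedD4 F q), ∀ x ∈ P₀, fieldAut (stab_d4 q) σ x = x := by
  have hEf : Fintype ↥(Fx σ) := Fintype.ofFinite _
  have hrodd : Odd r := by
    rw [hqr] at hodd
    rcases Nat.even_or_odd r with h | h
    · exfalso
      have h1 : Even (r ^ n) := Nat.even_pow.2 ⟨h, hn.pos.ne'⟩
      exact (Nat.not_even_iff_odd.2 hodd) h1
    · exact h
  have hqE : ∀ x : ↥(Fx σ), x ^ q = x := by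
    intro x
    rw [hqr, ← hr, Nat.card_eq_fintype_card]
    exact FiniteField.pow_card_pow n x
  have h2 : (2 : ↥(Fx σ)) ≠ 0 := by
    intro h
    have h3 : ringChar ↥(Fx σ) ∣ 2 := ringChar.dvd (by exact_mod_cast h)
    have h4 : ringChar ↥(Fx σ) = 2 := by
      rcases (Nat.dvd_prime Nat.prime_two).1 h3 with h5 | h5
      · exact absurd h5 CharP.ringChar_ne_one
      · exact h5
    have h5 : CharP ↥(Fx σ) 2 := ringChar.of_eq h4
    obtain ⟨a, ha, hb⟩ := FiniteField.card ↥(Fx σ) 2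
    rw [Nat.card_eq_fintype_card, hb] at hr
    rw [← hr] at hrodd
    have h6 : Even (2 ^ (a : ℕ)) := Nat.even_pow.2 ⟨by decide, a.pos.ne'⟩
    exact (Nat.not_even_iff_odd.2 hrodd) h6
  obtain ⟨H₀, hH₀, hd⟩ := exists_sub (E := ↥(Fx σ)) h2 hqE
  set H₁ := H₀.map (Matrix.GeneralLinearGroup.map (Fx σ).subtype) with hH₁
  have hle : H₁ ≤ twistedD4 F q := (Subgroup.map_mono hH₀).trans (words_d4 (Fx σ).subtype q)
  have hc1 : Nat.card H₁ = Nat.card H₀ := Subgroup.card_map_of_injective (map_injective (Fx σ).subtype)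
  have hc2 : Nat.card (H₁.subgroupOf (twistedD4 F q)) = Nat.card H₀ := by
    rw [← hc1]
    exact Nat.card_congr (subgroupOfEquivOfLe hle).toEquiv
  obtain ⟨P₀, hP₀⟩ := exists_sylow_le (H₁.subgroupOf (twistedD4 F q)) (by
    intro k hk
    rw [hc2]
    rw [Cfsg.Agent.S1067.result hq hF, hqr] at hk
    have h3 := two_part hrodd hn hk
    refine h3.trans ?_
    have h4 : Nat.card (Cfsg.Agent.Omega.Lie.CenSL.SL2 ↥(Fx σ)) = r * (r ^ 2 - 1) := by
      rw [← hr]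
      exact card_SL2
    rw [← h4]
    exact hd)
  refine ⟨P₀, fun x hx => ?_⟩
  obtain ⟨g, -, hg⟩ := mem_subgroupOf.1 (hP₀ hx)
  apply Subtype.ext
  rw [coe_fieldAut, ← hg]
  exact map_fixed σ g

/-- **`³D₄(q)`, `q` odd: automorphisms of odd order centralise a Sylow `2`-subgroup, modulo inner automorphisms** -/
theorem autOdd_3d4 {F : Type} [Field F] [Fintype F] {q : ℕ} (hq : IsPrimePow q) (hodd : Odd q)
    (hF : Fintype.card F = q ^ 3) : Cfsg.Agent.H561.RV.AutOdd ↥(Cfsg.Lie.twistedD4 F q) := by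
  obtain ⟨p, f, hp, hc, hf, rfl, hK'⟩ := Cfsg.Agent.H565.CopTw.exists_params hq hF (by norm_num)
  have : Fact p.Prime := ⟨hp⟩
  obtain ⟨τ, hτ⟩ := exists_ringAut p (3 * f) hK'
  obtain ⟨k, m, hm, hkm⟩ := Nat.exists_eq_two_pow_mul_odd (n := 3 * f) (by omega)
  have h3m : 3 ∣ m := by
    have h1 : 3 ∣ 2 ^ k * m := ⟨f, hkm.symm⟩
    exact (Nat.Coprime.pow_right k (by norm_num : Nat.Coprime 3 2)).dvd_of_dvd_mul_left h1
  obtain ⟨n, rfl⟩ := h3m
  have hn : Odd n := (Nat.odd_mul.1 hm).2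
  have hfn : f = 2 ^ k * n := by
    have : 3 * f = 3 * (2 ^ k * n) := by rw [hkm]; ring
    omega
  set σ := τ ^ (2 ^ k) with hσ
  have hoσ : orderOf σ = 3 * n := by
    rw [hσ, orderOf_pow_of_dvd (by positivity) (by rw [hτ, hkm]; exact dvd_mul_right _ _), hτ, hkm]
    exact Nat.mul_div_cancel_left _ (by positivity)
  have hr : Nat.card ↥(Fx σ) = p ^ (2 ^ k) := by
    have h1 := card_Fx σ
    rw [Nat.card_eq_fintype_card, hK', hoσ, hkm, pow_mul] at h1
    exact (Nat.pow_left_injective (n := 3 * n) (by have := hn.pos; omega) h1).symm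
  obtain ⟨P₀, hP₀⟩ := exists_sylow_fixed hq hodd hF σ hr hn (by rw [hfn, pow_mul])
  refine autOdd_of_index (H254.isSolvable_out_of_sch (Cfsg.Agent.Schreier.TwDFour.sch hq hF)) P₀
    (zpowers (fieldAut (stab_d4 (p ^ f)) σ)) ?_ ?_
  · have h1 : zpowers (fieldAut (stab_d4 (p ^ f)) σ) ≤ fixingSubgroup (MulAut ↥(twistedD4 F (p ^ f)))
        ((P₀ : Subgroup ↥(twistedD4 F (p ^ f))) : Set ↥(twistedD4 F (p ^ f))) := by
      rw [zpowers_le, mem_fixingSubgroup_iff]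
      exact fun x hx => hP₀ x hx
    intro φ hφ x hx
    exact (mem_fixingSubgroup_iff _).1 (h1 hφ) x hx
  · intro r hr' hd
    set mk := QuotientGroup.mk' (Inn ↥(twistedD4 F (p ^ f))) with hmk
    have hmks : Function.Surjective mk := QuotientGroup.mk'_surjective _
    have h1 : ((zpowers (fieldAut (stab_d4 (p ^ f)) σ)).map mk).index =
        (zpowers (fieldAut (stab_d4 (p ^ f)) σ) ⊔ Inn ↥(twistedD4 F (p ^ f))).index := by
      rw [index_map, hmk, QuotientGroup.ker_mk', MonoidHom.range_eq_top.2 (QuotientGroup.mk'_surjective _),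
        index_top, mul_one]
    have h2 : orderOf (mk (fieldAut (stab_d4 (p ^ f)) σ)) = 3 * n := by
      apply Nat.dvd_antisymm
      · rw [← hoσ]
        exact (orderOf_map_dvd mk _).trans (orderOf_map_dvd _ _)
      · rw [← hoσ]
        apply orderOf_dvd_of_pow_eq_one
        by_contra h3
        apply not_inner_d4 hq hF _ h3
        rw [map_pow]
        have h4 := pow_orderOf_eq_one (mk (fieldAut (stab_d4 (p ^ f)) σ))
        rw [← map_pow] at h4
        exact (QuotientGroup.eq_one_iff _).1 h4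
    have h3 := Subgroup.card_mul_index ((zpowers (fieldAut (stab_d4 (p ^ f)) σ)).map mk)
    rw [MonoidHom.map_zpowers, Nat.card_zpowers, h2] at h3
    have h4 : Nat.card (Out ↥(twistedD4 F (p ^ f))) = 3 * f := Cfsg.Agent.S2129.result p f hK' hf
    have h5 : 3 * n * (zpowers (mk (fieldAut (stab_d4 (p ^ f)) σ))).index = 3 * n * 2 ^ k := by
      rw [h3]
      refine h4.trans ?_
      rw [hkm]; ring
    have h6 := Nat.eq_of_mul_eq_mul_left (by have := hn.pos; omega) h5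
    rw [← MonoidHom.map_zpowers, h1] at h6
    rw [h6] at hd
    exact (Nat.prime_dvd_prime_iff_eq hr' Nat.prime_two).1 (hr'.dvd_of_dvd_pow hd)

end

end Cfsg.Agent.H86.RV
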