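import Cfsg.Agent.H86.RV.D4

/-!
# `G₂(E) ∩ ³D₄`: a subgroup of order divisible by `|SL₂(E)|²` (helper86)
-/

set_option autoImplicit false
set_option maxHeartbeats 400000

namespace Cfsg.Agent.H86.RV

open Cfsg.Lie Cfsg.Agent.ChevalleyStructure
open Cfsg.Agent.ChevalleyStructure.D4NConj Cfsg.Agent.ChevalleyStructure.D4NCheck
open Cfsg.Agent.ChevalleyStructure.D4U
open Cfsg.Agent.Omega.Lie.CenSL Cfsg.Agent.Omega.Lie.CenChev Cfsg.Agent.Omega.Lie.CenRGD

universe u

section

variable {E : Type u} [Field E]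

/-! ### `SL₂` -/

theorem of_comm {b : SL2 E} (h1 : up 1 * b = b * up 1) (h2 : lo 1 * b = b * lo 1) :
    b.1 0 1 = 0 ∧ b.1 1 0 = 0 ∧ b.1 0 0 = b.1 1 1 := by
  have e1 := congrArg (fun g : SL2 E => g.1 0 0) h1
  have e2 := congrArg (fun g : SL2 E => g.1 0 1) h1
  have e3 := congrArg (fun g : SL2 E => g.1 0 0) h2
  simp only [mul_ent, up00, up01, up10, up11, lo00, lo01, lo10, lo11] at e1 e2 e3
  refine ⟨?_, ?_, ?_⟩
  · linear_combination -e3
  · linear_combination e1
  · linear_combination -e2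

theorem eq_of_comm {b : SL2 E} (h1 : up 1 * b = b * up 1) (h2 : lo 1 * b = b * lo 1) :
    b = 1 ∨ b = dg (-1) (by simp) := by
  obtain ⟨h3, h4, h5⟩ := of_comm h1 h2
  have h6 := det_ent b
  rw [h3, h4, ← h5, mul_zero, sub_zero] at h6
  rcases mul_self_eq_one_iff.1 h6 with h7 | h7
  · left
    apply ext2
    · rw [h7]; simp
    · rw [h3]; simp
    · rw [h4]; simp
    · rw [← h5, h7]; simp
  · right
    apply ext2
    · rw [h7]; simp [dg]
    · rw [h3]; simp [dg]
    · rw [h4]; simp [dg]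
    · rw [← h5, h7]; simp [dg]

theorem dg_sq : (dg (-1) (by simp) : SL2 E) ^ 2 = 1 := by
  rw [pow_two]
  apply ext2 <;> simp [mul_ent, dg]

theorem card_center_dvd : Nat.card (Subgroup.center (SL2 E)) ∣ 2 := by
  have h1 : Subgroup.center (SL2 E) ≤ Subgroup.zpowers (dg (-1) (by simp)) := by
    intro x hx
    rw [Subgroup.mem_center_iff] at hx
    rcases eq_of_comm (hx (up 1)) (hx (lo 1)) with h | h
    · rw [h]; exact one_mem _
    · rw [h]; exact Subgroup.mem_zpowers _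
  refine (Subgroup.card_dvd_of_le h1).trans ?_
  rw [Nat.card_zpowers]
  exact orderOf_dvd_of_pow_eq_one dg_sq

/-- the diagonal automorphism of a nonsquare is not inner -/
theorem dl_ne {c : E} (h0 : c ≠ 0) (hc : ¬ IsSquare c) (a : SL2 E) : ∃ b, dl c h0 b ≠ a * b * a⁻¹ := by
  refine ⟨up 1, fun h => hc ?_⟩
  rw [dl_up, eq_mul_inv_iff_mul_eq, mul_one] at h
  have e1 := congrArg (fun g : SL2 E => g.1 0 0) h
  have e2 := congrArg (fun g : SL2 E => g.1 0 1) h
  simp only [mul_ent, up00, up01, up10, up11] at e1 e2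
  have h3 : a.1 1 0 = 0 := by
    have : c * a.1 1 0 = 0 := by linear_combination e1
    exact (mul_eq_zero.1 this).resolve_left h0
  have h4 : a.1 0 0 = c * a.1 1 1 := by linear_combination -e2
  have h5 := det_ent a
  rw [h3, h4, mul_zero, sub_zero] at h5
  refine ⟨(a.1 1 1)⁻¹, ?_⟩
  have h6 : a.1 1 1 ≠ 0 := by
    intro h
    rw [h, mul_zero] at h5
    exact zero_ne_one h5
  field_simp
  linear_combination h5

/-! ### injectivity -/

theorem psi_dg {c : E} (h0 : c ≠ 0) : psi E (dg c h0) =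
    Elts.hG hD4 18 c * Elts.hG hD4 13 c * Elts.hG hD4 12 c := by
  rw [psi_apply, ps_dg, ps_dg, ps_dg]

theorem sgn_tab : Strings.cartanR chevD4 18 14 = -1 ∧ Strings.cartanR chevD4 13 14 = -1 ∧
    Strings.cartanR chevD4 12 14 = -1 := by
  decide +kernel

theorem psi_inj (h2 : (2 : E) ≠ 0) : Function.Injective (psi E) := by
  rw [injective_iff_map_eq_one]
  intro b hb
  have h1 : ∀ a : SL2 E, a * b = b * a := by
    intro a
    apply ps_inj h2 (r := 18) (by norm_num)
    rw [map_mul, map_mul]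
    have e1 := ps_comm' (E := E) (r := 13) (s := 18) (by norm_num) (by norm_num) (by simp) (by simp) (by norm_num) a b
    have e2 := ps_comm' (E := E) (r := 12) (s := 18) (by norm_num) (by norm_num) (by simp) (by simp) (by norm_num) a b
    have e3 : ps E 18 (by norm_num) b = (ps E 13 (by norm_num) b * ps E 12 (by norm_num) b)⁻¹ := by
      rw [eq_inv_iff_mul_eq_one, ← mul_assoc, ← psi_apply, hb]
    have e4 : Commute (ps E 18 (by norm_num) a) (ps E 13 (by norm_num) b * ps E 12 (by norm_num) b) :=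
      Commute.mul_right e1 e2
    rw [e3]
    exact e4.inv_right
  rcases eq_of_comm (h1 (up 1)) (h1 (lo 1)) with h | h
  · exact h
  · exfalso
    rw [h, psi_dg] at hb
    have hm : (-1 : E) ≠ 0 := by simp
    have e1 := hG_x (E := E) (r := 18) (s := 14) (by norm_num) (by norm_num) hm (-1)
    have e2 := hG_x (E := E) (r := 13) (s := 14) (by norm_num) (by norm_num) hm 1
    have e3 := hG_x (E := E) (r := 12) (s := 14) (by norm_num) (by norm_num) hm (-1)
    rw [sgn_tab.1] at e1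
    rw [sgn_tab.2.1] at e2
    rw [sgn_tab.2.2] at e3
    simp only [zpow_neg, zpow_one, inv_neg, inv_one, mul_neg, neg_mul, one_mul, neg_neg] at e1 e2 e3
    have e4 : Elts.xG hD4 14 (-1 : E) = Elts.xG hD4 14 1 := by
      calc Elts.xG hD4 14 (-1 : E) = (Elts.hG hD4 18 (-1 : E) * Elts.hG hD4 13 (-1) * Elts.hG hD4 12 (-1)) *
            Elts.xG hD4 14 (-1) * (Elts.hG hD4 18 (-1) * Elts.hG hD4 13 (-1) * Elts.hG hD4 12 (-1))⁻¹ := by
              rw [hb]; simp
        _ = Elts.hG hD4 18 (-1 : E) * (Elts.hG hD4 13 (-1) * (Elts.hG hD4 12 (-1) *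
            Elts.xG hD4 14 (-1) * (Elts.hG hD4 12 (-1))⁻¹) * (Elts.hG hD4 13 (-1))⁻¹) *
            (Elts.hG hD4 18 (-1))⁻¹ := by group
        _ = _ := by rw [e3, e2, e1]
    have e5 : (2 : E) = 0 := by
      have e6 : ps E 14 (by norm_num) (up (-1)) = ps E 14 (by norm_num) (up 1) := by
        rw [ps_up, ps_up, e4]
      have e7 := congrArg (fun g : SL2 E => g.1 0 1) (ps_inj h2 (r := 14) (by norm_num) e6)
      simp only [up01] at e7
      linear_combination -e7
    exact h2 e5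

/-! ### membership -/

variable {q : ℕ}

theorem one_mem' (hq : ∀ x : E, x ^ q = x) {t : E} {r : ℕ} (hr : r ∈ [14, 9]) :
    Elts.xG hD4 r t ∈ twistedD4 E q := by
  simp only [List.mem_cons, List.not_mem_nil, or_false] at hr
  rcases hr with rfl | rfl
  · have h := D4Fixed.x14_mem (q := q) (hq t)
    exact h
  · have h := D4Fixed.x9_mem (q := q) (hq t)
    exact h

theorem id_pow (hq : ∀ x : E, x ^ q = x) : ∀ x : E, RingHom.id E x = x ^ q := fun x => (hq x).symm

theorem t18_mem (hq : ∀ x : E, x ^ q = x) (t : E) :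
    Elts.xG hD4 18 t * Elts.xG hD4 13 t * Elts.xG hD4 12 t ∈ twistedD4 E q := by
  have h := D4Fixed.X_mem (id_pow hq) t
  exact h

theorem t5_mem (hq : ∀ x : E, x ^ q = x) (t : E) :
    Elts.xG hD4 5 t * Elts.xG hD4 10 t * Elts.xG hD4 11 t ∈ twistedD4 E q := by
  have h := D4Fixed.Y_mem (id_pow hq) t
  exact h

theorem x23_mem (hq : ∀ x : E, x ^ q = x) (t : E) : Elts.xG hD4 23 t ∈ twistedD4 E q := by
  have h1 := Cfsg.Agent.Hexagon.TwD4Par.X4_mem (id_pow hq) (σ := RingEquiv.refl E) (fun _ => rfl) (t := -t) rfl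
  have h2 : Cfsg.Agent.Hexagon.TwD4Rel.X4 (-t) = Elts.xG hD4 23 t := by
    show Elts.xG hD4 23 (- -t) * 1 = _
    rw [neg_neg, mul_one]
  rwa [h2] at h1

theorem x0_mem (hq : ∀ x : E, x ^ q = x) (t : E) : Elts.xG hD4 0 t ∈ twistedD4 E q := by
  apply mem_of_conj (na_mem (id_pow hq))
  have h1 : na E * Elts.xG hD4 0 t * (na E)⁻¹ = Elts.xG hD4 1 (((-1 : ℤ) : E) * t) :=
    Cfsg.Agent.Hexagon.TwD4Par.na_c (s := 0) (s' := 1) (e := -1) (by norm_num) (by decide +kernel) t
  rw [h1]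
  apply mem_of_conj (nb_mem (id_pow hq))
  have h2 : nb E * Elts.xG hD4 1 (((-1 : ℤ) : E) * t) * (nb E)⁻¹ = Elts.xG hD4 9 _ :=
    Cfsg.Agent.Hexagon.TwD4Par.nb_c (s := 1) (s1 := 2) (s2 := 4) (s3 := 9) (e1 := -1) (e2 := -1) (e3 := 1)
      (by norm_num) (by norm_num) (by norm_num) (by decide +kernel) (by decide +kernel) (by decide +kernel) _
  rw [h2]
  exact one_mem' hq (by simp)

theorem range_le {Y : Type*} [Group Y] {f : SL2 E →* Y} {H : Subgroup Y} (h1 : ∀ t, f (up t) ∈ H)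
    (h2 : ∀ t, f (lo t) ∈ H) : f.range ≤ H := by
  rw [MonoidHom.range_eq_map, ← closure_up_lo, MonoidHom.map_closure, Subgroup.closure_le]
  rintro _ ⟨_, (⟨t, rfl⟩ | ⟨t, rfl⟩), rfl⟩
  · exact h1 t
  · exact h2 t

theorem phi_mem' (hq : ∀ x : E, x ^ q = x) : (phi E).range ≤ twistedD4 E q := by
  apply range_le
  · intro t
    rw [phi, ps_up]
    exact x23_mem hq t
  · intro t
    rw [phi, ps_lo]
    exact x0_mem hq t

theorem psi_mem' (hq : ∀ x : E, x ^ q = x) : (psi E).range ≤ twistedD4 E q := by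
  apply range_le
  · intro t
    rw [psi_apply, ps_up, ps_up, ps_up]
    exact t18_mem hq t
  · intro t
    rw [psi_apply, ps_lo, ps_lo, ps_lo]
    exact t5_mem hq t

theorem h14_mem (hq : ∀ x : E, x ^ q = x) {c : E} (h0 : c ≠ 0) : Elts.hG hD4 14 c ∈ twistedD4 E q := by
  have h1 : (ps E 14 (by norm_num)).range ≤ twistedD4 E q := by
    apply range_le
    · intro t
      rw [ps_up]
      exact one_mem' hq (by simp)
    · intro t
      rw [ps_lo]
      exact one_mem' hq (by decide)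
  rw [← ps_dg (by norm_num) h0]
  exact h1 ⟨_, rfl⟩

/-! ### the subgroup -/

theorem car14 : Strings.cartanR chevD4 14 23 = 1 ∧ Strings.cartanR chevD4 14 (chevD4.neg 23) = -1 ∧
    (∀ r ∈ [18, 13, 12], Strings.cartanR chevD4 14 r = -1 ∧ Strings.cartanR chevD4 14 (chevD4.neg r) = 1 ∧
      chevD4.neg r < 24) ∧ chevD4.neg 23 < 24 := by
  decide +kernel

/-- **a subgroup of `³D₄(q)`, defined over the field `E` of fixed points, of order divisible by `|SL₂(E)|²`** -/
theorem exists_sub [Finite E] (h2 : (2 : E) ≠ 0) (hq : ∀ x : E, x ^ q = x) :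
    ∃ H ≤ twistedD4 E q, Nat.card (SL2 E) * Nat.card (SL2 E) ∣ Nat.card H := by
  have hch : ringChar E ≠ 2 := by
    intro h
    apply h2
    have h3 := ringChar.Nat.cast_ringChar (R := E)
    rw [h] at h3
    exact_mod_cast h3
  obtain ⟨c, hc⟩ := FiniteField.exists_nonsquare hch
  have h0 : c ≠ 0 := by
    rintro rfl
    exact hc ⟨0, by simp⟩
  have h0' : c⁻¹ ≠ 0 := inv_ne_zero h0
  obtain ⟨t1, t2, t3, t4⟩ := car14
  refine ⟨(phi E).range ⊔ (psi E).range ⊔ Subgroup.zpowers (Elts.hG hD4 14 c), ?_, ?_⟩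
  · refine sup_le (sup_le (phi_mem' hq) (psi_mem' hq)) ?_
    rw [Subgroup.zpowers_le]
    exact h14_mem hq h0
  · refine sq_dvd (phi E) (psi E) (ps_inj h2 (by norm_num)) (psi_inj h2) phi_psi card_center_dvd
      (dl c h0) (dl c⁻¹ h0') ?_ ?_ (dl_ne h0 hc) ?_
    · intro a
      exact hG_ps (r := 23) (by norm_num) h0 h0 (by rw [t1, zpow_one]) (by rw [t2, zpow_neg, zpow_one]) t4 a
    · intro a
      have key : ∀ (r : ℕ) (hr : r < 24), r ∈ [18, 13, 12] →
          Elts.hG hD4 14 c * ps E r hr a * (Elts.hG hD4 14 c)⁻¹ = ps E r hr (dl c⁻¹ h0' a) := by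
        intro r hr hr'
        obtain ⟨u1, u2, u3⟩ := t3 r hr'
        exact hG_ps hr h0 h0' (by rw [u1, zpow_neg, zpow_one]) (by rw [u2, zpow_one, inv_inv]) u3 a
      rw [psi_apply, psi_apply, ← key 18 (by norm_num) (by simp), ← key 13 (by norm_num) (by simp),
        ← key 12 (by norm_num) (by simp)]
      group
    · have e1 := hG_sq h0
      rw [← psi_dg h0] at e1
      have e2 : Elts.hG hD4 14 c * Elts.hG hD4 14 c = Elts.hG hD4 23 c * (psi E (dg c h0))⁻¹ := by
        rw [← e1, mul_inv_cancel_right]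
      rw [e2, ← ps_dg (by norm_num) h0]
      exact mul_mem ((le_sup_left : (phi E).range ≤ _) ⟨_, rfl⟩)
        (inv_mem ((le_sup_right : (psi E).range ≤ _) ⟨_, rfl⟩))

end

end Cfsg.Agent.H86.RV
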